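import Groth.Agent.L00.StalkFunctor
import Groth.Agent.L20.ModStalk
import Groth.Agent.L18.GlobGen
import Groth.Agent.L17.Approx.Extend
import Groth.Agent.L16.Existence.Twist
import Groth.Agent.L18.LocFreeFP
import Groth.Agent.L29.LocFree
import Groth.Agent.L16.Existence.Vanishing
import Groth.Agent.L18.AmpleOps
import Groth.Agent.L18.AmpleGG

/-!
Finite locally free modules as quotients of finitely many copies of negative powers of an ample module.
-/

set_option autoImplicit false
set_option linter.style.haveILetI false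
set_option backward.isDefEq.respectTransparency false
set_option backward.isDefEq.respectTransparency.types false

universe u

open CategoryTheory CategoryTheory.Limits AlgebraicGeometry TopologicalSpace Opposite

noncomputable section

namespace Groth.L16.NegPow

open Groth.L18.Frame (rs ro rs_rs rs_smul IsFrame)
open Groth.L00.Tensor

variable {X : Scheme.{u}}

/-- The restriction of a finite free module is free. -/
def freeRestrictIso (U : X.Opens) (n : ℕ) :
    (FlatMod.freeMod X n).restrict U.ι ≅ FlatMod.freeMod (↑U) n :=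
  (Scheme.Modules.restrictFunctorIsoPullback U.ι).app _ ≪≫ Groth.L29.LocFree.pullbackFreeIso U.ι n

theorem isCoh_of_isFinLocFree {M : X.Modules} (h : FlatMod.IsFinLocFree M) : Coh.IsCoh M := by
  haveI : SheafOfModules.IsFinitePresentation (R := X.ringCatSheaf) M := Groth.L18.LFP.isFP_of_isFinLocFree M h
  exact ⟨inferInstance, inferInstance⟩

/-- A coherent module with zero stalk at a point is zero nearby. -/
theorem exists_nhd_stalk_zero {C : X.Modules} (hC : Coh.IsCoh C) (x : X)
    (hx : IsZero ((Groth.L00.Stk.F X x).obj C)) :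
    ∃ W : X.Opens, x ∈ W ∧ ∀ y ∈ W, IsZero ((Groth.L00.Stk.F X y).obj C) := by
  classical
  obtain ⟨_, ⟨V, hV, rfl⟩, hxV, -⟩ :=
    X.isBasis_affineOpens.exists_subset_of_mem_open (Set.mem_univ x) isOpen_univ
  haveI : Coh.IsQCoh C := hC.1
  haveI := Groth.L20.ModStalk.finite_sections C hC hV
  obtain ⟨S, hS⟩ := Module.Finite.fg_top (R := Γ(X, V)) (M := Γ(C, V))
  haveI : Subsingleton (C.presheaf.stalk x) := ModuleCat.subsingleton_of_isZero hx
  have hloc : ∀ c : Γ(C, V), ∃ W : X.Opens, x ∈ W ∧ ∀ y (_ : y ∈ W) (hyV : y ∈ V),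
      C.presheaf.germ V y hyV c = 0 := fun c => by
    obtain ⟨W, hxW, i₁, i₂, hW⟩ := TopCat.Presheaf.germ_eq C.presheaf x hxV hxV c 0 (Subsingleton.elim _ _)
    refine ⟨W, hxW, fun y hy hyV => ?_⟩
    rw [← TopCat.Presheaf.germ_res_apply C.presheaf i₁ y hy c, hW, map_zero, map_zero]
  choose W hW hW' using hloc
  refine ⟨V ⊓ S.inf W, ⟨hxV, ?_⟩, fun y hy => ?_⟩
  · show x ∈ ((S.inf W : X.Opens) : Set X)
    rw [Opens.coe_finset_inf, Finset.inf_set_eq_iInter, Set.mem_iInter₂]
    exact fun c _ => hW c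
  haveI : Subsingleton ((Groth.L00.Stk.F X y).obj C) := by
    letI := Groth.L20.ModStalk.stalkModule C hy.1
    haveI := Groth.L20.ModStalk.isLocalizedModule_germ C hV hy.1
    have hker : ∀ c : Γ(C, V), Groth.L20.ModStalk.germₗ C hy.1 c = 0 := fun c => by
      have hc : c ∈ Submodule.span Γ(X, V) (S : Set Γ(C, V)) := hS ▸ Submodule.mem_top
      induction hc using Submodule.span_induction with
      | mem c hc => exact hW' c y ((Finset.inf_le (f := W) hc) hy.2) hy.1
      | zero => exact map_zero _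
      | add a b _ _ ha hb => rw [map_add, ha, hb, add_zero]
      | smul r a _ ha => rw [map_smul, ha, smul_zero]
    refine subsingleton_of_forall_eq (α := C.presheaf.stalk y) 0 fun z => ?_
    obtain ⟨⟨c, t⟩, hz⟩ := IsLocalizedModule.surj (hV.primeIdealOf ⟨y, hy.1⟩).asIdeal.primeCompl
      (Groth.L20.ModStalk.germₗ C hy.1) z
    rw [hker] at hz
    exact ((IsLocalizedModule.map_units (Groth.L20.ModStalk.germₗ C hy.1) t)
      |> (Module.End.isUnit_iff _).1).1 (hz.trans (map_zero _).symm)
  exact ModuleCat.isZero_of_subsingleton _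

/-- Finitely many members of a generating family generate a coherent module on a quasi-compact scheme. -/
theorem exists_finite_epi [CompactSpace X] {Q : X.Modules} (hQ : Coh.IsCoh Q) {ι : Type u}
    (p : (SheafOfModules.free ι : X.Modules) ⟶ Q) [Epi p] :
    ∃ (k : ℕ) (q : FlatMod.freeMod X k ⟶ Q), Epi q := by
  classical
  let σ : ι → (Coh.structureModule X ⟶ Q) := fun i =>
    Sigma.ι (fun _ : ι => Coh.structureModule X) i ≫ p
  let q : ∀ S : Finset ι, FlatMod.freeMod X S.card ⟶ Q := fun S =>
    Sigma.desc fun j => σ (S.equivFin.symm j).1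
  have hkill : ∀ (S : Finset ι), ∀ i ∈ S, σ i ≫ cokernel.π (q S) = 0 := fun S i hi => by
    have h := congrArg (Sigma.ι (fun _ : Fin S.card => Coh.structureModule X) (S.equivFin ⟨i, hi⟩) ≫ ·)
      (cokernel.condition (q S))
    simp only [q, comp_zero, Sigma.ι_desc_assoc] at h
    rw [Equiv.symm_apply_apply] at h
    exact h
  haveI : Coh.IsQCoh Q := hQ.1
  have hC : ∀ S, Coh.IsCoh (cokernel (q S)) := fun S => by
    haveI : Coh.IsQCoh (FlatMod.freeMod X S.card) :=
      (isCoh_of_isFinLocFree (M := FlatMod.freeMod X S.card)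
        fun x => ⟨⊤, S.card, trivial, ⟨freeRestrictIso _ _⟩⟩).1
    haveI : Epi (cokernel.π (q S)) := coequalizer.π_epi
    exact ⟨Devissage.isQCoh_cokernel (q S), Groth.L17.Approx.isFT_of_epi (cokernel.π (q S)) hQ.2⟩
  have hpt : ∀ x : X, ∃ S : Finset ι, IsZero ((Groth.L00.Stk.F X x).obj (cokernel (q S))) := by
    intro x
    let F := Groth.L00.Stk.F X x
    haveI : F.Additive := Functor.additive_of_preserves_binary_products F
    let hcol := isColimitOfPreserves F (coproductIsCoproduct (fun _ : ι => Coh.structureModule X))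
    let T : Set (F.obj Q) := ⋃ i, Set.range (F.map (σ i))
    have hspan : Submodule.span (X.presheaf.stalk x) T = ⊤ := by
      let N := Submodule.span (X.presheaf.stalk x) T
      haveI : Epi (F.map p) := inferInstance
      have h0 : F.map p ≫ ModuleCat.ofHom N.mkQ = 0 := hcol.hom_ext fun ⟨i⟩ => by
        rw [comp_zero]
        show F.map (Sigma.ι (fun _ : ι => Coh.structureModule X) i) ≫ F.map p ≫ ModuleCat.ofHom N.mkQ = 0
        rw [← Category.assoc, ← F.map_comp]
        ext z
        exact (Submodule.Quotient.mk_eq_zero N).2 (Submodule.subset_span (Set.mem_iUnion.2 ⟨i, z, rfl⟩))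
      rw [← comp_zero (X := F.obj (SheafOfModules.free ι : X.Modules)) (f := F.map p), cancel_epi] at h0
      rw [eq_top_iff]
      intro z _
      exact (Submodule.Quotient.mk_eq_zero N).1 (ConcreteCategory.congr_hom h0 z)
    have hfg : (⊤ : Submodule (X.presheaf.stalk x) (F.obj Q)).FG := by
      obtain ⟨_, ⟨V, hV, rfl⟩, hxV, -⟩ :=
        X.isBasis_affineOpens.exists_subset_of_mem_open (Set.mem_univ x) isOpen_univ
      haveI := Groth.L20.ModStalk.finite_sections Q hQ hV
      obtain ⟨G, hG⟩ := Module.Finite.fg_top (R := Γ(X, V)) (M := Γ(Q, V))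
      let gm : Γ(Q, V) → F.obj Q := fun g => (Q.presheaf.germ V x hxV g : Q.presheaf.stalk x)
      refine ⟨G.image gm, eq_top_iff.2 fun z _ => ?_⟩
      letI := Groth.L20.ModStalk.stalkModule Q hxV
      haveI := Groth.L20.ModStalk.isLocalizedModule_germ Q hV hxV
      obtain ⟨⟨c, t⟩, hz⟩ := IsLocalizedModule.surj (hV.primeIdealOf ⟨x, hxV⟩).asIdeal.primeCompl
        (Groth.L20.ModStalk.germₗ Q hxV) z
      set N := Submodule.span (X.presheaf.stalk x) ((G.image gm : Finset _) : Set (F.obj Q))
      have hgerm : ∀ c : Γ(Q, V), gm c ∈ N := fun c => by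
        have hc : c ∈ Submodule.span Γ(X, V) (G : Set Γ(Q, V)) := hG ▸ Submodule.mem_top
        induction hc using Submodule.span_induction with
        | mem g hg => exact Submodule.subset_span (Finset.mem_image_of_mem _ hg)
        | zero => rw [show gm 0 = 0 from map_zero _]; exact N.zero_mem
        | add a b _ _ ha hb => rw [show gm (a + b) = gm a + gm b from map_add _ a b]; exact N.add_mem ha hb
        | smul r a _ ha =>
          rw [show gm (r • a) = (X.presheaf.germ V x hxV r : X.presheaf.stalk x) • gm a from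
            Groth.L20.ModStalk.germ_smul Q hxV r a]
          exact N.smul_mem _ ha
      letI := X.presheaf.algebra_section_stalk ⟨x, hxV⟩
      haveI := hV.isLocalization_stalk ⟨x, hxV⟩
      obtain ⟨w, hw⟩ := (IsLocalization.map_units (X.presheaf.stalk x) t).exists_left_inv
      have : z = w • gm c := by
        rw [show gm c = ((X.presheaf.germ V x hxV).hom (t : Γ(X, V)) : X.presheaf.stalk x) • z from hz.symm,
          smul_smul]
        exact ((congrArg (· • z) hw).trans (one_smul _ z)).symm
      rw [this]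
      exact N.smul_mem _ (hgerm c)
    obtain ⟨t, htT, ht⟩ := Submodule.fg_span_iff_fg_span_finset_subset T |>.1 (hspan ▸ hfg)
    choose i hi using fun z : t => Set.mem_iUnion.1 (htT z.2)
    let S := Finset.univ.image i
    refine ⟨S, ?_⟩
    haveI : Epi (cokernel.π (q S)) := coequalizer.π_epi
    have hπ : F.map (cokernel.π (q S)) = 0 := by
      ext z
      have hz : z ∈ Submodule.span (X.presheaf.stalk x) (t : Set (F.obj Q)) := by
        rw [← ht, hspan]
        trivial
      induction hz using Submodule.span_induction with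
      | mem z hz =>
        obtain ⟨y, hy⟩ := hi ⟨z, hz⟩
        rw [← show (F.map (σ _)) y = z from hy]
        show ((F.map (σ _) ≫ F.map (cokernel.π (q S))) : _ ⟶ _) y = 0
        rw [← F.map_comp, hkill S _ (Finset.mem_image_of_mem _ (Finset.mem_univ _)), F.map_zero]
        rfl
      | zero => exact map_zero _
      | add a b _ _ ha hb => simp only [map_add, ha, hb]
      | smul r a _ ha => simp only [map_smul, ha]
    exact IsZero.of_epi_eq_zero _ hπ
  choose S hS using hpt
  choose W hxW hW using fun x => exists_nhd_stalk_zero (hC (S x)) x (hS x)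
  obtain ⟨Z, hZ⟩ := isCompact_univ.elim_finite_subcover (fun x : X => (W x : Set X)) (fun x => (W x).2)
    (fun x _ => Set.mem_iUnion.2 ⟨x, hxW x⟩)
  let U := Z.biUnion S
  refine ⟨U.card, q U, Abelian.epi_of_cokernel_π_eq_zero _ (zero_of_target_iso_zero _
    ((Groth.L00.Stk.isZero_iff _).2 fun y => ?_).isoZero)⟩
  obtain ⟨x, hxZ, hy⟩ := Set.mem_iUnion₂.1 (hZ (Set.mem_univ y))
  have hsub : q (S x) ≫ cokernel.π (q U) = 0 := Sigma.hom_ext _ _ fun j => by
    rw [comp_zero, ← Category.assoc, show Sigma.ι (fun _ : Fin (S x).card => Coh.structureModule X) j ≫ q (S x) =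
      σ ((S x).equivFin.symm j).1 from Sigma.ι_desc _ _]
    exact hkill U _ (Finset.mem_biUnion.2 ⟨x, hxZ, ((S x).equivFin.symm j).2⟩)
  haveI : Epi (cokernel.π (q U)) := coequalizer.π_epi
  haveI : Epi (cokernel.desc (q (S x)) (cokernel.π (q U)) hsub) :=
    epi_of_epi_fac (cokernel.π_desc _ _ hsub)
  exact IsZero.of_epi ((Groth.L00.Stk.F X y).map (cokernel.desc (q (S x)) (cokernel.π (q U)) hsub))
    (hW x y hy)

theorem epi_map_tensorRight {A B : X.Modules} (f : A ⟶ B) [Epi f] (N : X.Modules) :
    Epi ((tensorRightF N).map f) := inferInstance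

/-- An inverse of an invertible module is invertible. -/
theorem isInvertible_inverse {L L' : X.Modules} (hL : PicF.IsInvertible L)
    (e : CohB1.tensorMod L L' ≅ Coh.structureModule X) : PicF.IsInvertible L' := by
  intro x
  obtain ⟨U, hx, ⟨i⟩⟩ := hL x
  exact ⟨U, hx, ⟨(tensorUnitLeft (L'.restrict U.ι)).symm ≪≫ tensorIso i.symm (Iso.refl _) ≪≫
    tensorRestrict U.ι L L' ≪≫ (Scheme.Modules.restrictFunctor U.ι).mapIso e ≪≫
    Scheme.Modules.restrictUnitIso U.ι⟩⟩

/-- Powers of inverse modules are inverse. -/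
def powInvIso {L L' : X.Modules} (e : CohB1.tensorMod L L' ≅ Coh.structureModule X) (n : ℕ) :
    CohB1.tensorMod (CohB1.tensorPow L n) (CohB1.tensorPow L' n) ≅ Coh.structureModule X :=
  (tensorPowTensor L L' n).symm ≪≫ tensorPowIso e n ≪≫ tensorPowUnit X n

theorem isFinLocFree_freeTensor {M : X.Modules} (hM : PicF.IsInvertible M) (k : ℕ) :
    FlatMod.IsFinLocFree (CohB1.tensorMod (FlatMod.freeMod X k) M) := by
  intro x
  obtain ⟨U, hx, ⟨i⟩⟩ := hM x
  exact ⟨U, k, hx, ⟨(tensorRestrict U.ι _ M).symm ≪≫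
    tensorIso (freeRestrictIso U k) i ≪≫ tensorUnitRight _⟩⟩

/-- A finite locally free module is a quotient of copies of every large negative power of an ample module. -/
theorem exists_epi_negPow {L L' : X.Modules} (hL : CohB1.IsAmple L)
    (e : CohB1.tensorMod L L' ≅ Coh.structureModule X) {E : X.Modules} (hE : FlatMod.IsFinLocFree E) :
    ∃ n₀ : ℕ, ∀ n, n₀ ≤ n → ∃ (k : ℕ)
      (p : CohB1.tensorMod (FlatMod.freeMod X k) (CohB1.tensorPow L' n) ⟶ E), Epi p := by
  haveI := hL.2.1
  have hEc := isCoh_of_isFinLocFree hE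
  obtain ⟨n₀, hn₀⟩ := Groth.L18.Ample.exists_forall_isGloballyGenerated hL E hEc
  refine ⟨n₀, fun n hn => ?_⟩
  obtain ⟨ι, p, hp⟩ := hn₀ n hn
  have hLn := Groth.L18.Ample.isCoh_of_isInvertible (Groth.L18.Ample.isInvertible_tensorPow hL.1 n)
  haveI : Coh.IsQCoh E := hEc.1
  haveI : Coh.IsQCoh (CohB1.tensorPow L n) := hLn.1
  obtain ⟨k, q, hq⟩ := exists_finite_epi
    ⟨Groth.L00.Tensor.isQCoh_tensorMod _ _, Groth.L00.Tensor.isFT_tensorMod _ _ hEc.2 hLn.2⟩ p
  exact ⟨k, (tensorRightF (CohB1.tensorPow L' n)).map q ≫ (tensorAssoc E _ _ ≪≫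
    tensorIso (Iso.refl E) (powInvIso e n) ≪≫ tensorUnitRight E).hom, @epi_comp _ _ _ _ _ _ (epi_map_tensorRight q _) _ inferInstance⟩

end Groth.L16.NegPow
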