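import Groth.Agent.L16.NegPow.Gen
import Groth.Agent.L17.CoverVanishing
import Groth.Agent.L17.SerreCriterion
import Groth.Agent.L29.DCoh.Amplitude
import Groth.Agent.L18.AmpleLocal

/-!
A scheme with an ample module whose negative powers have no higher cohomology is affine.
-/

set_option autoImplicit false
set_option linter.style.haveILetI false
set_option backward.isDefEq.respectTransparency false
set_option backward.isDefEq.respectTransparency.types false

universe u

open CategoryTheory CategoryTheory.Limits AlgebraicGeometry TopologicalSpace Opposite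

noncomputable section

namespace Groth.L16.NegPow

open Groth.L18.Frame (rs ro rs_rs rs_self rs_smul IsFrame)
open Groth.L18.GenLoc
open Groth.L00.Tensor

variable {X : Scheme.{u}}

/-- The identity of a finite free module tensored with `M` decomposes into the factors. -/
theorem exists_decomposition (M : X.Modules) (k : ℕ) :
    ∃ π : Fin k → ((tensorRightF M).obj (FlatMod.freeMod X k) ⟶ (tensorRightF M).obj (Coh.structureModule X)),
      𝟙 ((tensorRightF M).obj (FlatMod.freeMod X k)) =
        ∑ j, π j ≫ (tensorRightF M).map (Sigma.ι (fun _ : Fin k => Coh.structureModule X) j) := by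
  classical
  let G := tensorRightF M
  haveI : PreservesColimit (Discrete.functor fun _ : Fin k => Coh.structureModule X) G := inferInstance
  haveI : HasCoproduct fun _ : Fin k => G.obj (Coh.structureModule X) := inferInstance
  let c : G.obj (FlatMod.freeMod X k) ≅ ∐ fun _ : Fin k => G.obj (Coh.structureModule X) :=
    PreservesCoproduct.iso G _
  refine ⟨fun j => c.hom ≫ Sigma.desc fun i => if i = j then 𝟙 _ else 0, ?_⟩
  rw [← cancel_epi c.inv]
  refine Sigma.hom_ext _ _ fun i => ?_
  rw [Category.comp_id, Preadditive.comp_sum, Preadditive.comp_sum, Finset.sum_eq_single i]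
  · have hc : G.map (Sigma.ι (fun _ : Fin k => Coh.structureModule X) i) =
        Sigma.ι (fun _ : Fin k => G.obj (Coh.structureModule X)) i ≫ c.inv := by simp [c, G]
    simp only [Category.assoc, Iso.inv_hom_id_assoc, Sigma.ι_desc_assoc, if_pos, Category.id_comp]
    exact hc.symm
  · intro j _ hj
    simp [Ne.symm hj]
  · simp

theorem subsingleton_HH_freeTensor (M : X.Modules) (k p : ℕ) (h : Subsingleton (Coh.HH X M p)) :
    Subsingleton (Coh.HH X (CohB1.tensorMod (FlatMod.freeMod X k) M) p) := by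
  obtain ⟨π, hπ⟩ := exists_decomposition M k
  refine subsingleton_of_forall_eq 0 fun x => ?_
  rw [← CohLinear.hmap_id p x, CohLinear.hmap_apply]
  show Sheaf.H.map (CohLinear.tm (𝟙 ((tensorRightF M).obj (FlatMod.freeMod X k)))) p x = 0
  rw [hπ, CohLinear.tm, Functor.map_sum]
  refine (CohLinear.hMap_sum Finset.univ _ p x).trans (Finset.sum_eq_zero fun j _ => ?_)
  rw [Functor.map_comp, Sheaf.H.map_comp_apply]
  haveI : Subsingleton (Coh.HH X ((tensorRightF M).obj (Coh.structureModule X)) p) := by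
    refine subsingleton_of_forall_eq 0 fun y => ?_
    rw [← CohLinear.hmap_id p y, show 𝟙 ((tensorRightF M).obj (Coh.structureModule X)) =
      (tensorUnitLeft M).hom ≫ (tensorUnitLeft M).inv from (tensorUnitLeft M).hom_inv_id.symm, CohLinear.hmap_comp]
    exact (congrArg (CohLinear.hmap (tensorUnitLeft M).inv p) (h.elim _ 0)).trans (map_zero _)
  exact (congrArg _ (Subsingleton.elim (α := Coh.HH X ((tensorRightF M).obj (Coh.structureModule X)) p)
    _ 0)).trans (map_zero _)

variable {L L' : X.Modules}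

/-- If high negative powers of an ample module have no higher cohomology, nor has a finite locally free module. -/
theorem subsingleton_HH_of_isFinLocFree (hL : CohB1.IsAmple L)
    (e : CohB1.tensorMod L L' ≅ Coh.structureModule X) (n₀ : ℕ)
    (h : ∀ n : ℕ, n₀ ≤ n → ∀ p : ℕ, 0 < p → Subsingleton (Coh.HH X (CohB1.tensorPow L' n) p))
    {p : ℕ} (hp : 0 < p) {E : X.Modules} (hE : FlatMod.IsFinLocFree E) : Subsingleton (Coh.HH X E p) := by
  haveI := hL.2.1
  haveI := Groth.L18.Ample.isSeparated_of_isAmple hL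
  obtain ⟨N, hN⟩ := Groth.L17.exists_bound_qcqs (⊤ : X.Opens) (by simpa using isCompact_univ)
  suffices H : ∀ d p, 0 < p → N ≤ p + d → ∀ E : X.Modules, FlatMod.IsFinLocFree E →
      Subsingleton (Coh.HH X E p) from H N p hp (Nat.le_add_left _ _) E hE
  intro d
  induction d with
  | zero =>
    intro p _ hp E hE
    haveI : Coh.IsQCoh E := (isCoh_of_isFinLocFree hE).1
    haveI := subsingleton_of_forall_eq 0 (hN E p hp)
    exact (Groth.L17.hTopEquiv (X := X.toTopCat) (Coh.toAb E) p).subsingleton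
  | succ d ih =>
    intro p hp hpd E hE
    obtain ⟨n₁, hn₁⟩ := exists_epi_negPow hL e hE
    obtain ⟨k, q, hq⟩ := hn₁ (max n₁ n₀) (le_max_left _ _)
    have hP := isFinLocFree_freeTensor
      (Groth.L18.Ample.isInvertible_tensorPow (isInvertible_inverse hL.1 e) (max n₁ n₀)) k
    have hK := Groth.L29.DC.isFinLocFree_kernel_of_epi q hP hE
    have hP0 := subsingleton_HH_freeTensor (CohB1.tensorPow L' (max n₁ n₀)) k p (h _ (le_max_right _ _) p hp)
    have hK1 := ih (p + 1) (by omega) (by omega) _ hK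
    let S : ShortComplex X.Modules := ShortComplex.mk (kernel.ι q) q (kernel.condition q)
    have hS : S.ShortExact := { exact := ShortComplex.exact_kernel q, epi_g := hq }
    refine subsingleton_of_forall_eq 0 fun x => ?_
    obtain ⟨y, hy⟩ := (CohLinear.exact_hmap_delta hS p x).1 (hK1.elim _ _)
    rw [← hy, hP0.elim y 0, map_zero]

/-- Sections of `L` which generate everywhere. -/
theorem exists_generating_sections (hL : CohB1.IsAmple L) :
    ∃ (d k : ℕ) (s : Fin k → (Coh.structureModule X ⟶ CohB1.tensorPow L d)),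
      (∀ j, IsAffineOpen (CohB1.genLocus _ (s j))) ∧ ∀ x : X, ∃ j, x ∈ CohB1.genLocus _ (s j) := by
  classical
  haveI := hL.2.1
  choose a s hxs hs using hL.2.2
  obtain ⟨Z, hZ⟩ := isCompact_univ.elim_finite_subcover (fun x : X => (CohB1.genLocus _ (s x) : Set X))
    (fun x => (CohB1.genLocus _ (s x)).2) (fun x _ => Set.mem_iUnion.2 ⟨x, hxs x⟩)
  let d : ℕ := ∏ x ∈ Z, (a x + 1)
  have hd : 0 < d := Finset.prod_pos fun x _ => Nat.succ_pos _
  have hφ : ∀ x : Z, ∃ φ : Coh.structureModule X ⟶ CohB1.tensorPow L d,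
      CohB1.genLocus _ φ = CohB1.genLocus _ (s x.1) := by
    intro x
    obtain ⟨c, hc⟩ : a x.1 + 1 ∣ d := Finset.dvd_prod_of_mem _ x.2
    obtain ⟨c', rfl⟩ : ∃ c', c = c' + 1 := Nat.exists_eq_add_one.mpr (Nat.pos_of_mul_pos_left (hc ▸ hd))
    refine ⟨Groth.L18.Ample.pw (s x.1) (c' + 1) ≫ (tensorPowMul L (a x.1 + 1) (c' + 1) ≪≫
      eqToIso (congrArg (CohB1.tensorPow L) hc.symm)).hom, ?_⟩
    rw [Groth.L16.genLocus_comp_iso, Groth.L18.Ample.genLocus_pw_succ
      (Groth.L18.Ample.isInvertible_tensorPow hL.1 _)]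
  choose φ hφ using hφ
  refine ⟨d, Z.card, fun j => φ (Z.equivFin.symm j), fun j => ?_, fun x => ?_⟩
  · rw [hφ]
    exact hs _
  · obtain ⟨y, hy, hxy⟩ := Set.mem_iUnion₂.1 (hZ (Set.mem_univ x))
    refine ⟨Z.equivFin ⟨y, hy⟩, ?_⟩
    rw [hφ, Equiv.symm_apply_apply]
    exact hxy

/-- The criterion. -/
theorem isAffine_of_vanishing (hL : CohB1.IsAmple L) (e₀ : CohB1.tensorMod L L' ≅ Coh.structureModule X) (n₀ : ℕ)
    (h : ∀ n : ℕ, n₀ ≤ n → ∀ p : ℕ, 0 < p → Subsingleton (Coh.HH X (CohB1.tensorPow L' n) p)) : IsAffine X := by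
  classical
  obtain ⟨d, k, s, hs, hcov⟩ := exists_generating_sections hL
  let M := CohB1.tensorPow L d
  let M' := CohB1.tensorPow L' d
  have hM : PicF.IsInvertible M := Groth.L18.Ample.isInvertible_tensorPow hL.1 d
  have hM' : PicF.IsInvertible M' := Groth.L18.Ample.isInvertible_tensorPow (isInvertible_inverse hL.1 e₀) d
  let eD := powInvIso e₀ d
  let G := tensorRightF M'
  let S : FlatMod.freeMod X k ⟶ M := Sigma.desc s
  haveI : Epi S := Preadditive.epi_of_cancel_zero _ fun {Z : X.Modules} (g : M ⟶ Z) hg =>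
    Groth.L18.Ample.eq_zero_of_local g fun V m x hx => by
      obtain ⟨j, hj⟩ := hcov x
      refine ⟨V ⊓ CohB1.genLocus _ (s j), inf_le_left, ⟨hx, hj⟩, ?_⟩
      obtain ⟨a, ha⟩ := (isFrame_genLocus (s j)).exists_coeff (inf_le_right : V ⊓ CohB1.genLocus _ (s j) ≤ _)
        (rs M inf_le_left m)
      have hjg : s j ≫ g = 0 := by
        have := congrArg (Sigma.ι (fun _ : Fin k => Coh.structureModule X) j ≫ ·) hg
        simpa [S] using this
      rw [← ha, rs_rs, ← app_eq (s j) _ a]
      exact congrArg (fun f : Coh.structureModule X ⟶ Z => f.app _ a) hjg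
  let v : G.obj (FlatMod.freeMod X k) ⟶ Coh.structureModule X := G.map S ≫ eD.hom
  haveI : Epi (G.map S) := epi_map_tensorRight S M'
  haveI : Epi v := epi_comp _ _
  have hK := Groth.L29.DC.isFinLocFree_kernel_of_epi v (isFinLocFree_freeTensor hM' k)
    (Existence.isFinLocFree_of_isInvertible (Groth.L18.Ample.isInvertible_structureModule X))
  obtain ⟨z, hz⟩ := Groth.L17.Serre.surjective_top v
    (subsingleton_HH_of_isFinLocFree hL e₀ n₀ h Nat.one_pos hK) (1 : Γ(X, ⊤))
  obtain ⟨π, hπ⟩ := exists_decomposition M' k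
  let f : Fin k → Γ(X, ⊤) := fun j => (G.map (s j) ≫ eD.hom).app ⊤ ((π j).app ⊤ z)
  have hf : ∑ j, f j = 1 := by
    refine Eq.trans ?_ hz
    have h1 : v = ∑ j, π j ≫ G.map (s j) ≫ eD.hom := by
      have := congrArg (· ≫ v) hπ
      rw [Category.id_comp, Preadditive.sum_comp] at this
      rw [this]
      refine Finset.sum_congr rfl fun j _ => ?_
      rw [Category.assoc, ← G.map_comp_assoc, Sigma.ι_desc]
    show _ = v.app ⊤ z
    rw [h1]
    let ev : (G.obj (FlatMod.freeMod X k) ⟶ Coh.structureModule X) →+ Γ(Coh.structureModule X, ⊤) :=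
      AddMonoidHom.mk' (fun φ => φ.app ⊤ z) fun _ _ => rfl
    exact (map_sum ev (fun j => π j ≫ G.map (s j) ≫ eD.hom) Finset.univ).symm.trans rfl
  have key : ∀ j, X.basicOpen (f j) ≤ CohB1.genLocus _ (s j) := by
    intro j x hx
    obtain ⟨W, ee, hxW, hee⟩ := Groth.L18.Frame.exists_frame hM x
    obtain ⟨W', ε, hxW', hε⟩ := Groth.L18.Frame.exists_frame hM' x
    obtain ⟨V₁, hV, hx₁, r, hr⟩ := Groth.L18.Ample.exists_local_tens (L := Coh.structureModule X) hε
      (inf_le_right : W ⊓ W' ≤ W') (rs _ le_top ((π j).app ⊤ z)) (show x ∈ W ⊓ W' from ⟨hxW, hxW'⟩)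
    obtain ⟨a, ha⟩ := (hee.mono (hV.trans inf_le_left)).exists_coeff le_rfl (rs M le_top (secOf (s j)))
    rw [rs_self] at ha
    have h1 : Groth.L18.Frame.ro (le_top : V₁ ≤ ⊤) (f j) =
        (show Γ(X, V₁) from r) * a * (show Γ(X, V₁) from eD.hom.app V₁
          (tens M M' V₁ (rs M (hV.trans inf_le_left) ee) (rs M' (hV.trans inf_le_right) ε))) := by
      refine (Groth.L18.Ample.hom_app_rs (G.map (s j) ≫ eD.hom) le_top ((π j).app ⊤ z)).symm.trans ?_
      rw [show rs _ (le_top : V₁ ≤ ⊤) ((π j).app ⊤ z) = _ from (rs_rs _ le_top hV _).symm.trans hr]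
      show eD.hom.app V₁ ((tensorMap (s j) (𝟙 M')).app V₁ _) = _
      refine (congrArg (eD.hom.app V₁) (Groth.L17.ClosedPush.tensorMap_unit (s j) (𝟙 M') V₁ r _)).trans ?_
      show eD.hom.app V₁ (tens M M' V₁ ((s j).app V₁ (show Γ(X, V₁) from r)) _) = _
      rw [app_eq, ← ha, ← mul_smul, tens_smul_left]
      exact eD.hom.app_smul _ _
    have hxa : x ∈ X.basicOpen a := by
      have hx' : x ∈ X.basicOpen (Groth.L18.Frame.ro (le_top : V₁ ≤ ⊤) (f j)) := by
        rw [show Groth.L18.Frame.ro (le_top : V₁ ≤ ⊤) (f j) = X.presheaf.map (homOfLE le_top).op (f j) from rfl,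
          Scheme.basicOpen_res]
        exact ⟨hx₁, hx⟩
      rw [h1, Scheme.basicOpen_mul, Scheme.basicOpen_mul] at hx'
      exact hx'.1.2
    exact ((genLocus_inf_eq (s j) (hee.mono (hV.trans inf_le_left)) ha).ge hxa).1
  refine isAffine_of_isAffineOpen_basicOpen (Set.range f) ((Ideal.eq_top_iff_one _).2 (hf ▸ Ideal.sum_mem _
    fun j _ => Ideal.subset_span ⟨j, rfl⟩)) ?_
  rintro _ ⟨j, rfl⟩
  have : X.basicOpen (f j) = X.basicOpen (X.presheaf.map (homOfLE le_top).op (f j) :
      Γ(X, CohB1.genLocus _ (s j))) := by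
    rw [Scheme.basicOpen_res, inf_eq_right.2 (key j)]
  rw [this]
  exact (hs j).basicOpen _

end Groth.L16.NegPow
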